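import Cfsg.Agent.Lib.Recog.SporBound.J3TTop.Data

set_option autoImplicit false
set_option maxRecDepth 20000
set_option Elab.async false

/-! Checks of the certificate, part 6. -/

namespace CfsgLib.Recog.SporBound.J3TTop
open CfsgLib.Recog.SporBound
open CfsgLib.ThreeTrans.CosetIndex (forallFrom)

theorem steps8 : cert.stepsPart 160 20 = true := by decide +kernel

theorem steps9 : cert.stepsPart 180 20 = true := by decide +kernel

theorem steps10 : cert.stepsPart 200 20 = true := by decide +kernel

theorem steps11 : cert.stepsPart 220 20 = true := by decide +kernel

end CfsgLib.Recog.SporBound.J3TTop
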