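import Cfsg.Agent.Lib.Recog.SporBound.J3TTop.Data

set_option autoImplicit false
set_option maxRecDepth 20000
set_option Elab.async false

/-! Checks of the certificate, part 8. -/

namespace CfsgLib.Recog.SporBound.J3TTop
open CfsgLib.Recog.SporBound
open CfsgLib.ThreeTrans.CosetIndex (forallFrom)

theorem steps16 : cert.stepsPart 320 20 = true := by decide +kernel

theorem steps17 : cert.stepsPart 340 20 = true := by decide +kernel

theorem steps18 : cert.stepsPart 360 20 = true := by decide +kernel

theorem steps19 : cert.stepsPart 380 20 = true := by decide +kernel

end CfsgLib.Recog.SporBound.J3TTop
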