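import Cfsg.Agent.Lib.Recog.SporBound.Sound
import Cfsg.Agent.Lib.Recog.SporBound.J3TTop.Tree0
import Cfsg.Agent.Lib.Recog.SporBound.J3TTop.Tree1
import Cfsg.Agent.Lib.Recog.SporBound.J3TTop.Tree2
import Cfsg.Agent.Lib.Recog.SporBound.J3TTop.Tree3
import Cfsg.Agent.Lib.Recog.SporBound.J3TTop.Tree4
import Cfsg.Agent.Lib.Recog.SporBound.J3TTop.Tree5
import Cfsg.Agent.Lib.Recog.SporBound.J3TTop.Tree6
import Cfsg.Agent.Lib.Recog.SporBound.J3TTop.Tree7
import Cfsg.Agent.Lib.Recog.SporBound.J3TTop.Tree8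
import Cfsg.Agent.Lib.Recog.SporBound.J3TTop.Tree9
import Cfsg.Agent.Lib.Recog.SporBound.J3TTop.Tree10
import Cfsg.Agent.Lib.Recog.SporBound.J3TTop.Tree11
import Cfsg.Agent.Lib.Recog.SporBound.J3TTop.Tree12
import Cfsg.Agent.Lib.Recog.SporBound.J3TTop.Tree13
import Cfsg.Agent.Lib.Recog.SporBound.J3TTop.Tree14
import Cfsg.Agent.Lib.Recog.SporBound.J3TTop.Tree15

set_option autoImplicit false
set_option maxRecDepth 20000

/-! Generated closure certificate: cosets of the subgroup (owner: helper29) (owner: lead). -/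

namespace CfsgLib.Recog.SporBound.J3TTop
open CfsgLib.Recog.SporBound

noncomputable def factTree : Q (ℕ) := (.node (.node (.node ft10 ft20 ft30 ft40) (.node ft51 ft61 ft71 ft81) (.node ft92 ft102 ft112 ft122) (.node ft133 ft143 ft153 ft163)) (.node (.node ft174 ft184 ft194 ft204) (.node ft215 ft225 ft235 ft245) (.node ft256 ft266 ft276 ft286) (.node ft297 ft307 ft317 ft327)) (.node (.node ft338 ft348 ft358 ft368) (.node ft379 ft389 ft399 ft409) (.node ft420 ft430 ft440 ft450) (.node ft461 ft471 ft481 ft491)) (.node (.node ft502 ft512 ft522 ft532) (.node ft543 ft553 ft563 ft573) (.node ft584 ft594 ft604 ft614) (.node ft625 ft635 ft645 ft655)))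
noncomputable def nodeTree : Q (ℕ) := (.node (.node ct10 ct20 ct30 ct40) (.node ct50 ct60 ct70 ct80) (.node ct90 ct100 ct110 ct120) (.node ct130 ct140 ct150 ct160))
noncomputable def stepTree : Q (List ℕ) := (.node (.node (.node st13 st27 st41 st54) (.node st68 st82 st96 st109) (.node st123 st137 st151 st164) (.node st178 st192 st205 st218)) (.node (.node st232 st246 st260 st273) (.node st287 st301 st315 st328) (.node st342 st356 st369 st382) (.node st396 st410 st423 st436)) (.node (.node st450 st464 st478 st491) (.node st505 st519 st533 st546) (.node st560 st574 st587 st600) (.node st614 st628 st641 st654)) (.node (.node st668 st682 st696 st709) (.node st723 st737 st751 st764) (.node st778 st792 st805 st818) (.node st832 st846 st859 st872)))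
noncomputable def finalTree : Q (List ℕ) := (.node (.node (.node (.node et6 et13 et20 et26) (.node et33 et40 et47 et53) (.node et60 et67 et74 et80) (.node et87 et94 et100 et106)) (.node (.node et113 et120 et127 et133) (.node et140 et147 et154 et160) (.node et167 et174 et180 et186) (.node et193 et200 et206 et212)) (.node (.node et219 et226 et233 et239) (.node et246 et253 et260 et266) (.node et273 et280 et286 et292) (.node et299 et306 et312 et318)) (.node (.node et325 et332 et339 et345) (.node et352 et359 et366 et372) (.node et379 et386 et392 et398) (.node et405 et412 et418 et424))) (.node (.node (.node et431 et438 et445 et451) (.node et458 et465 et472 et478) (.node et485 et492 et499 et505) (.node et512 et519 et525 et531)) (.node (.node et538 et545 et552 et558) (.node et565 et572 et579 et585) (.node et592 et599 et605 et611) (.node et618 et625 et631 et637)) (.node (.node et644 et651 et658 et664) (.node et671 et678 et685 et691) (.node et698 et705 et711 et717) (.node et724 et731 et737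 et743)) (.node (.node et750 et757 et764 et770) (.node et777 et784 et791 et797) (.node et804 et811 et817 et823) (.node et830 et837 et843 et849))) (.node (.node (.node et856 et863 et870 et876) (.node et883 et890 et897 et903) (.node et910 et917 et924 et930) (.node et937 et944 et950 et956)) (.node (.node et963 et970 et977 et983) (.node et990 et997 et1004 et1010) (.node et1017 et1024 et1030 et1036) (.node et1043 et1050 et1056 et1062)) (.node (.node et1069 et1076 et1083 et1089) (.node et1096 et1103 et1110 et1116) (.node et1123 et1130 et1136 et1142) (.node et1149 et1156 et1162 et1168)) (.node (.node et1175 et1182 et1189 et1195) (.node et1202 et1209 et1216 et1222) (.node et1229 et1236 et1242 et1248) (.node et1255 et1262 et1268 et1274))) (.node (.node (.node et1281 et1288 et1295 et1301) (.node et1308 et1315 et1322 et1328) (.node et1335 et1342 et1348 et1354) (.node et1361 et1368 et1374 et1380)) (.node (.node et1387 et1394 et1401 et1407) (.node et1414 et1421 et1428 et1434) (.node et1441 et1448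 et1454 et1460) (.node et1467 et1474 et1480 et1486)) (.node (.node et1493 et1500 et1507 et1513) (.node et1520 et1527 et1534 et1540) (.node et1547 et1554 et1560 et1566) (.node et1573 et1580 et1586 et1592)) (.node (.node et1599 et1606 et1613 et1619) (.node et1626 et1633 et1640 et1646) (.node et1653 et1660 et1666 et1672) (.node et1679 et1686 et1692 et1698))))

/-- The certificate. -/
noncomputable def cert : Cert where
  n := 18468
  nd := 23927
  nf := 75700
  kl := [0, 1, 2, 4, 7]
  facts := factTree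
  cn := nodeTree
  steps := stepTree
  finals := finalTree
  rels := [[0, 0], [1, 1], [2, 2], [3, 3], [4, 4], [5, 5], [6, 6], [7, 7], [1, 2, 1, 2, 1, 2], [0, 1, 2, 0, 1, 2, 0, 1, 2, 0, 1, 2, 0, 1, 2], [1, 0, 1, 2, 0, 2, 1, 0, 1, 2, 0, 2, 1, 0], [3, 0, 2, 1, 0, 1, 2, 0], [5, 4, 0, 4, 0, 4, 0, 4, 0], [6, 1, 2, 0, 2, 1, 0, 4, 0, 4, 0, 1, 2, 0, 2, 1], [1, 2, 4, 2, 1, 4], [3, 4, 3, 4], [5, 0, 5, 0], [5, 1, 5, 1], [5, 2, 5, 2], [5, 4, 5, 4], [5, 3, 5, 3], [1, 4, 1, 4, 1, 4, 1, 4, 5], [4, 0, 1, 2, 4, 0, 1, 2, 4, 0, 1, 2, 4, 0, 1, 2, 4, 0, 1, 2], [7, 1, 2, 7, 2, 1], [7, 4, 7, 4], [7, 5, 7, 5, 4], [7, 1, 0, 6, 1, 0, 7, 0, 1, 6, 0, 1], [7, 3, 7, 6], [7, 1, 4, 1, 7, 1, 4, 1, 7, 1, 4, 1], [7, 0, 3, 2, 7, 1, 2, 6], [7, 1, 7, 1, 7, 1, 7, 1, 7, 1, 7, 1, 7, 1, 7, 1, 7, 1, 7, 1], [7, 5, 1, 7, 1, 7, 5, 1, 7, 1, 7, 5, 1, 7, 1, 7, 5, 1, 7, 1], [0, 3, 4, 0, 5, 1, 7, 1, 7, 1, 7, 1, 7, 1, 7, 1, 0, 3, 4, 0, 5, 1, 7, 1, 7, 1, 7, 1, 7, 1, 7, 1, 0, 3, 4, 0, 5, 1, 7, 1, 7, 1, 7, 1, 7, 1, 7, 1]]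
  subs := [[5], [4, 1, 4, 0, 4, 1, 4], [4, 1, 4, 1, 4, 1, 4], [4, 1, 4, 2, 4, 1, 4], [7, 1, 7, 1, 7, 1, 7, 1, 7, 1]]

/-- Chains of the traced words. -/
noncomputable def closers : List ℕ := []

end CfsgLib.Recog.SporBound.J3TTop
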